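import Cfsg.Agent.H16.T.Fi24.D

/-! Generated by tools/h16 (computation kit). -/

set_option maxRecDepth 100000
set_option maxHeartbeats 0
set_option Elab.async false

namespace H16.TFi24

open H26 (jn)
theorem sj15_4 : allZ (slJ H26.F24.T 19 (nth [] Ws 15) (nth (BT.leaf 0) Ts 15)) (nat_lit 8) (nat_lit 2) = true := by decide +kernel
theorem sj15_5 : allZ (slJ H26.F24.T 19 (nth [] Ws 15) (nth (BT.leaf 0) Ts 15)) (nat_lit 10) (nat_lit 2) = true := by decide +kernel
theorem sj15_6 : allZ (slJ H26.F24.T 19 (nth [] Ws 15) (nth (BT.leaf 0) Ts 15)) (nat_lit 12) (nat_lit 2) = true := by decide +kernel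
theorem sj15_7 : allZ (slJ H26.F24.T 19 (nth [] Ws 15) (nth (BT.leaf 0) Ts 15)) (nat_lit 14) (nat_lit 2) = true := by decide +kernel
theorem sj15_8 : allZ (slJ H26.F24.T 19 (nth [] Ws 15) (nth (BT.leaf 0) Ts 15)) (nat_lit 16) (nat_lit 2) = true := by decide +kernel
theorem sj15_9 : allZ (slJ H26.F24.T 19 (nth [] Ws 15) (nth (BT.leaf 0) Ts 15)) (nat_lit 18) (nat_lit 1) = true := by decide +kernel
theorem sj16_0 : allZ (slJ H26.F24.T 19 (nth [] Ws 16) (nth (BT.leaf 0) Ts 16)) (nat_lit 0) (nat_lit 2) = true := by decide +kernel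
theorem sj16_1 : allZ (slJ H26.F24.T 19 (nth [] Ws 16) (nth (BT.leaf 0) Ts 16)) (nat_lit 2) (nat_lit 2) = true := by decide +kernel
theorem sj16_2 : allZ (slJ H26.F24.T 19 (nth [] Ws 16) (nth (BT.leaf 0) Ts 16)) (nat_lit 4) (nat_lit 2) = true := by decide +kernel
theorem sj16_3 : allZ (slJ H26.F24.T 19 (nth [] Ws 16) (nth (BT.leaf 0) Ts 16)) (nat_lit 6) (nat_lit 2) = true := by decide +kernel
theorem sj16_4 : allZ (slJ H26.F24.T 19 (nth [] Ws 16) (nth (BT.leaf 0) Ts 16)) (nat_lit 8) (nat_lit 2) = true := by decide +kernel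
theorem sj16_5 : allZ (slJ H26.F24.T 19 (nth [] Ws 16) (nth (BT.leaf 0) Ts 16)) (nat_lit 10) (nat_lit 2) = true := by decide +kernel
theorem sj16_6 : allZ (slJ H26.F24.T 19 (nth [] Ws 16) (nth (BT.leaf 0) Ts 16)) (nat_lit 12) (nat_lit 2) = true := by decide +kernel
theorem sj16_7 : allZ (slJ H26.F24.T 19 (nth [] Ws 16) (nth (BT.leaf 0) Ts 16)) (nat_lit 14) (nat_lit 2) = true := by decide +kernel
theorem sj16_8 : allZ (slJ H26.F24.T 19 (nth [] Ws 16) (nth (BT.leaf 0) Ts 16)) (nat_lit 16) (nat_lit 2) = true := by decide +kernel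
theorem sj16_9 : allZ (slJ H26.F24.T 19 (nth [] Ws 16) (nth (BT.leaf 0) Ts 16)) (nat_lit 18) (nat_lit 1) = true := by decide +kernel
theorem hd : H26.F24.T.n ≤ 2 ^ 19 ∧ 19 < 256 ∧ nat_lit 0x1000000000000000000000000000000000000000000000000000000000000000100000000000000000000000000000000000000000000000000000000000000010000000000000000000000000000000000000000000000000000000000000001000000000000000000000000000000000000000000000000000000000000000100000000000000000000000000000000000000000000000000000000000000010000000000000000000000000000000000000000000000000000000000000001000000000000000000000000000000000000000000000000000000000000000100000000000000000000000000000000000000000000000000000000000000010000000000000000000000000000000000000000000000000000000000000001000000000000000000000000000000000000000000000000000000000000000100000000000000000000000000000000000000000000000000000000000000010000000000000000000000000000000000000000000000000000000000000001000000000000000000000000000000000000000000000000000000000000000100000000000000000000000000000000000000000000000000000000000000010000000000000000000000000000000000000000000000000000000000000001000000000000000000000000000000000000000000000000000000000000000100000000000000000000000000000000000000000000000000000000000000010000000000000000000000000000000000000000000000000000000000000001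 = geo 256 19 := by decide +kernel
theorem sg : (∀ W ∈ Ws, ltAll 15 W = 0 ∧ W.length % 2 = 0) ∧ ∀ k < 15, k = 14 ∨ ∃ j < 17, nth [] Ws j = [k, 14] := by decide +kernel
theorem sg0 : allL (ltAll 17) (lv0 0).Ws = true ∧ 17 ≤ 17 ∧ ∀ k < 17, nth [] (lv0 0).Ws k = [k] := by decide +kernel
theorem rlv1_0 : reachX H26.F24.T (Nat.div (Nat.shiftLeft 1 306936) 1000003) (Wlv1.map (flat Ws)) [nat_lit 12, nat_lit 6, nat_lit 11, nat_lit 10, nat_lit 1, nat_lit 0, nat_lit 2, nat_lit 8, nat_lit 7, nat_lit 9, nat_lit 10, nat_lit 5, nat_lit 4, nat_lit 6, nat_lit 9, nat_lit 12, nat_lit 6, nat_lit 11, nat_lit 10, nat_lit 3, nat_lit 2, nat_lit 4, nat_lit 7, nat_lit 8, nat_lit 7, nat_lit 9, nat_lit 10, nat_lit 1, nat_lit 2, nat_lit 0, nat_lit 8, nat_lit 10, nat_lit 3, nat_lit 4] (maskL [(nat_lit 31658)]) = mlv1 := by decide +kernel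
theorem clv1 : popM 15347 mlv1 = (nat_lit 31671) ∧ 15347 < 1048575 ∧ (nat_lit 31658) < H26.F24.T.n ∧ Wlv1.length = (nat_lit 13) ∧ 0 < (nat_lit 13) := by decide +kernel
theorem rlv2_0 : reachX H26.F24.T (Nat.div (Nat.shiftLeft 1 306936) 1000003) (Wlv2.map (flat Ws)) [nat_lit 0, nat_lit 2, nat_lit 4, nat_lit 6, nat_lit 7, nat_lit 9, nat_lit 10, nat_lit 1, nat_lit 0, nat_lit 2, nat_lit 10, nat_lit 3, nat_lit 2, nat_lit 4, nat_lit 7, nat_lit 8, nat_lit 7, nat_lit 10, nat_lit 9, nat_lit 5, nat_lit 4, nat_lit 6, nat_lit 1, nat_lit 9, nat_lit 3, nat_lit 7, nat_lit 2, nat_lit 4, nat_lit 8, nat_lit 10, nat_lit 9, nat_lit 1, nat_lit 0] (maskL [(nat_lit 1)]) = mlv2 := by decide +kernel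
theorem clv2 : popM 15347 mlv2 = (nat_lit 28160) ∧ 15347 < 1048575 ∧ (nat_lit 1) < H26.F24.T.n ∧ Wlv2.length = (nat_lit 11) ∧ 0 < (nat_lit 11) := by decide +kernel
theorem rkv0_0 : reachX H26.F24.T (Nat.div (Nat.shiftLeft 1 306936) 1000003) (Wkv0.map (flat Ws)) [nat_lit 0, nat_lit 1] (maskL [(nat_lit 22965)]) = mkv0_0 := by decide +kernel
theorem rkv0_1 : reachX H26.F24.T (Nat.div (Nat.shiftLeft 1 306936) 1000003) (Wkv0.map (flat Ws)) [nat_lit 2] mkv0_0 = mkv0_1 := by decide +kernel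
theorem rkv0_2 : reachX H26.F24.T (Nat.div (Nat.shiftLeft 1 306936) 1000003) (Wkv0.map (flat Ws)) [nat_lit 0, nat_lit 1] mkv0_1 = mkv0_2 := by decide +kernel
theorem rkv0_3 : reachX H26.F24.T (Nat.div (Nat.shiftLeft 1 306936) 1000003) (Wkv0.map (flat Ws)) [nat_lit 0] mkv0_2 = mkv0_3 := by decide +kernel
theorem rkv0_4 : reachX H26.F24.T (Nat.div (Nat.shiftLeft 1 306936) 1000003) (Wkv0.map (flat Ws)) [nat_lit 2] mkv0_3 = mkv0_4 := by decide +kernel
theorem rkv0_5 : reachX H26.F24.T (Nat.div (Nat.shiftLeft 1 306936) 1000003) (Wkv0.map (flat Ws)) [nat_lit 1, nat_lit 0] mkv0_4 = mkv0_5 := by decide +kernel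
theorem rkv0_6 : reachX H26.F24.T (Nat.div (Nat.shiftLeft 1 306936) 1000003) (Wkv0.map (flat Ws)) [nat_lit 2] mkv0_5 = mkv0_6 := by decide +kernel
theorem rkv0_7 : reachX H26.F24.T (Nat.div (Nat.shiftLeft 1 306936) 1000003) (Wkv0.map (flat Ws)) [nat_lit 1] mkv0_6 = mkv0_7 := by decide +kernel
theorem rkv0_8 : reachX H26.F24.T (Nat.div (Nat.shiftLeft 1 306936) 1000003) (Wkv0.map (flat Ws)) [nat_lit 2] mkv0_7 = mkv0 := by decide +kernel
theorem ckv0 : popM 15347 mkv0 = (nat_lit 351) ∧ 15347 < 1048575 ∧ (nat_lit 22965) < H26.F24.T.n ∧ Wkv0.length = (nat_lit 3) ∧ 0 < (nat_lit 3) := by decide +kernel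
theorem rkv1_0 : reachX H26.F24.T (Nat.div (Nat.shiftLeft 1 306936) 1000003) (Wkv1.map (flat Ws)) [nat_lit 0, nat_lit 2] (maskL [(nat_lit 24485)]) = mkv1_0 := by decide +kernel
theorem rkv1_1 : reachX H26.F24.T (Nat.div (Nat.shiftLeft 1 306936) 1000003) (Wkv1.map (flat Ws)) [nat_lit 1, nat_lit 0] mkv1_0 = mkv1_1 := by decide +kernel
theorem rkv1_2 : reachX H26.F24.T (Nat.div (Nat.shiftLeft 1 306936) 1000003) (Wkv1.map (flat Ws)) [nat_lit 2, nat_lit 0] mkv1_1 = mkv1_2 := by decide +kernel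
theorem rkv1_3 : reachX H26.F24.T (Nat.div (Nat.shiftLeft 1 306936) 1000003) (Wkv1.map (flat Ws)) [nat_lit 1, nat_lit 2] mkv1_2 = mkv1_3 := by decide +kernel
theorem rkv1_4 : reachX H26.F24.T (Nat.div (Nat.shiftLeft 1 306936) 1000003) (Wkv1.map (flat Ws)) [nat_lit 0, nat_lit 1] mkv1_3 = mkv1_4 := by decide +kernel
theorem rkv1_5 : reachX H26.F24.T (Nat.div (Nat.shiftLeft 1 306936) 1000003) (Wkv1.map (flat Ws)) [nat_lit 2, nat_lit 0] mkv1_4 = mkv1_5 := by decide +kernel
theorem rkv1_6 : reachX H26.F24.T (Nat.div (Nat.shiftLeft 1 306936) 1000003) (Wkv1.map (flat Ws)) [nat_lit 1, nat_lit 2] mkv1_5 = mkv1_6 := by decide +kernel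
theorem rkv1_7 : reachX H26.F24.T (Nat.div (Nat.shiftLeft 1 306936) 1000003) (Wkv1.map (flat Ws)) [nat_lit 0, nat_lit 2] mkv1_6 = mkv1 := by decide +kernel
theorem ckv1 : popM 15347 mkv1 = (nat_lit 2592) ∧ 15347 < 1048575 ∧ (nat_lit 24485) < H26.F24.T.n ∧ Wkv1.length = (nat_lit 3) ∧ 0 < (nat_lit 3) := by decide +kernel

end H16.TFi24
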