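import Cfsg.Agent.H16.T.Fi24.D

/-! Generated by tools/h16 (computation kit). -/

set_option maxRecDepth 100000
set_option maxHeartbeats 0
set_option Elab.async false

namespace H16.TFi24

open H26 (jn)
theorem rkv2_0 : reachX H26.F24.T (Nat.div (Nat.shiftLeft 1 306936) 1000003) (Wkv2.map (flat Ws)) [nat_lit 0, nat_lit 1] (maskL [(nat_lit 281554)]) = mkv2_0 := by decide +kernel
theorem rkv2_1 : reachX H26.F24.T (Nat.div (Nat.shiftLeft 1 306936) 1000003) (Wkv2.map (flat Ws)) [nat_lit 2] mkv2_0 = mkv2_1 := by decide +kernel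
theorem rkv2_2 : reachX H26.F24.T (Nat.div (Nat.shiftLeft 1 306936) 1000003) (Wkv2.map (flat Ws)) [nat_lit 0, nat_lit 1] mkv2_1 = mkv2_2 := by decide +kernel
theorem rkv2_3 : reachX H26.F24.T (Nat.div (Nat.shiftLeft 1 306936) 1000003) (Wkv2.map (flat Ws)) [nat_lit 0] mkv2_2 = mkv2_3 := by decide +kernel
theorem rkv2_4 : reachX H26.F24.T (Nat.div (Nat.shiftLeft 1 306936) 1000003) (Wkv2.map (flat Ws)) [nat_lit 2] mkv2_3 = mkv2_4 := by decide +kernel
theorem rkv2_5 : reachX H26.F24.T (Nat.div (Nat.shiftLeft 1 306936) 1000003) (Wkv2.map (flat Ws)) [nat_lit 1, nat_lit 0] mkv2_4 = mkv2_5 := by decide +kernel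
theorem rkv2_6 : reachX H26.F24.T (Nat.div (Nat.shiftLeft 1 306936) 1000003) (Wkv2.map (flat Ws)) [nat_lit 1, nat_lit 0] mkv2_5 = mkv2_6 := by decide +kernel
theorem rkv2_7 : reachX H26.F24.T (Nat.div (Nat.shiftLeft 1 306936) 1000003) (Wkv2.map (flat Ws)) [nat_lit 2] mkv2_6 = mkv2_7 := by decide +kernel
theorem rkv2_8 : reachX H26.F24.T (Nat.div (Nat.shiftLeft 1 306936) 1000003) (Wkv2.map (flat Ws)) [nat_lit 0, nat_lit 1] mkv2_7 = mkv2_8 := by decide +kernel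
theorem rkv2_9 : reachX H26.F24.T (Nat.div (Nat.shiftLeft 1 306936) 1000003) (Wkv2.map (flat Ws)) [nat_lit 0] mkv2_8 = mkv2_9 := by decide +kernel
theorem rkv2_10 : reachX H26.F24.T (Nat.div (Nat.shiftLeft 1 306936) 1000003) (Wkv2.map (flat Ws)) [nat_lit 2] mkv2_9 = mkv2_10 := by decide +kernel
theorem rkv2_11 : reachX H26.F24.T (Nat.div (Nat.shiftLeft 1 306936) 1000003) (Wkv2.map (flat Ws)) [nat_lit 1, nat_lit 0] mkv2_10 = mkv2 := by decide +kernel
theorem ckv2 : popM 15347 mkv2 = (nat_lit 5040) ∧ 15347 < 1048575 ∧ (nat_lit 281554) < H26.F24.T.n ∧ Wkv2.length = (nat_lit 3) ∧ 0 < (nat_lit 3) := by decide +kernel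
theorem Blt : ltAll 306936 B = 0 := by decide +kernel
theorem lc : lowChk P 306936 17 [lv0 0, lv1 0, lv2 0, kv0 0, kv1 0, kv2 0] [] = 0 ∧ prodN [lv0 0, lv1 0, lv2 0, kv0 0, kv1 0, kv2 0] = 1255205709190661721292800 ∧ 0 < 1255205709190661721292800 := by decide +kernel
theorem rkw0_0 : reachX H26.F24.T (Nat.div (Nat.shiftLeft 1 306936) 1000003) (Wkw0.map (flat Ws)) [nat_lit 1] (maskL [(nat_lit 258135)]) = mkw0_0 := by decide +kernel
theorem rkw0_1 : reachX H26.F24.T (Nat.div (Nat.shiftLeft 1 306936) 1000003) (Wkw0.map (flat Ws)) [nat_lit 2] mkw0_0 = mkw0_1 := by decide +kernel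
theorem rkw0_2 : reachX H26.F24.T (Nat.div (Nat.shiftLeft 1 306936) 1000003) (Wkw0.map (flat Ws)) [nat_lit 0] mkw0_1 = mkw0_2 := by decide +kernel
theorem rkw0_3 : reachX H26.F24.T (Nat.div (Nat.shiftLeft 1 306936) 1000003) (Wkw0.map (flat Ws)) [nat_lit 1] mkw0_2 = mkw0_3 := by decide +kernel
theorem rkw0_4 : reachX H26.F24.T (Nat.div (Nat.shiftLeft 1 306936) 1000003) (Wkw0.map (flat Ws)) [nat_lit 2] mkw0_3 = mkw0_4 := by decide +kernel
theorem rkw0_5 : reachX H26.F24.T (Nat.div (Nat.shiftLeft 1 306936) 1000003) (Wkw0.map (flat Ws)) [nat_lit 1] mkw0_4 = mkw0_5 := by decide +kernel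
theorem rkw0_6 : reachX H26.F24.T (Nat.div (Nat.shiftLeft 1 306936) 1000003) (Wkw0.map (flat Ws)) [nat_lit 0] mkw0_5 = mkw0_6 := by decide +kernel
theorem rkw0_7 : reachX H26.F24.T (Nat.div (Nat.shiftLeft 1 306936) 1000003) (Wkw0.map (flat Ws)) [nat_lit 2] mkw0_6 = mkw0_7 := by decide +kernel
theorem rkw0_8 : reachX H26.F24.T (Nat.div (Nat.shiftLeft 1 306936) 1000003) (Wkw0.map (flat Ws)) [nat_lit 1] mkw0_7 = mkw0_8 := by decide +kernel
theorem rkw0_9 : reachX H26.F24.T (Nat.div (Nat.shiftLeft 1 306936) 1000003) (Wkw0.map (flat Ws)) [nat_lit 0] mkw0_8 = mkw0_9 := by decide +kernel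
theorem rkw0_10 : reachX H26.F24.T (Nat.div (Nat.shiftLeft 1 306936) 1000003) (Wkw0.map (flat Ws)) [nat_lit 2] mkw0_9 = mkw0_10 := by decide +kernel
theorem rkw0_11 : reachX H26.F24.T (Nat.div (Nat.shiftLeft 1 306936) 1000003) (Wkw0.map (flat Ws)) [nat_lit 1] mkw0_10 = mkw0_11 := by decide +kernel
theorem rkw0_12 : reachX H26.F24.T (Nat.div (Nat.shiftLeft 1 306936) 1000003) (Wkw0.map (flat Ws)) [nat_lit 2] mkw0_11 = mkw0_12 := by decide +kernel
theorem rkw0_13 : reachX H26.F24.T (Nat.div (Nat.shiftLeft 1 306936) 1000003) (Wkw0.map (flat Ws)) [nat_lit 1] mkw0_12 = mkw0 := by decide +kernel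
theorem ckw0 : popM 15347 mkw0 = (nat_lit 728) ∧ 15347 < 1048575 ∧ (nat_lit 258135) < H26.F24.T.n ∧ Wkw0.length = (nat_lit 3) ∧ 0 < (nat_lit 3) := by decide +kernel
theorem rkw1_0 : reachX H26.F24.T (Nat.div (Nat.shiftLeft 1 306936) 1000003) (Wkw1.map (flat Ws)) [nat_lit 2] (maskL [(nat_lit 11172)]) = mkw1_0 := by decide +kernel
theorem rkw1_1 : reachX H26.F24.T (Nat.div (Nat.shiftLeft 1 306936) 1000003) (Wkw1.map (flat Ws)) [nat_lit 0] mkw1_0 = mkw1_1 := by decide +kernel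
theorem rkw1_2 : reachX H26.F24.T (Nat.div (Nat.shiftLeft 1 306936) 1000003) (Wkw1.map (flat Ws)) [nat_lit 1] mkw1_1 = mkw1_2 := by decide +kernel
theorem rkw1_3 : reachX H26.F24.T (Nat.div (Nat.shiftLeft 1 306936) 1000003) (Wkw1.map (flat Ws)) [nat_lit 2] mkw1_2 = mkw1_3 := by decide +kernel
theorem rkw1_4 : reachX H26.F24.T (Nat.div (Nat.shiftLeft 1 306936) 1000003) (Wkw1.map (flat Ws)) [nat_lit 0] mkw1_3 = mkw1_4 := by decide +kernel
theorem rkw1_5 : reachX H26.F24.T (Nat.div (Nat.shiftLeft 1 306936) 1000003) (Wkw1.map (flat Ws)) [nat_lit 1] mkw1_4 = mkw1_5 := by decide +kernel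
theorem rkw1_6 : reachX H26.F24.T (Nat.div (Nat.shiftLeft 1 306936) 1000003) (Wkw1.map (flat Ws)) [nat_lit 2] mkw1_5 = mkw1_6 := by decide +kernel
theorem rkw1_7 : reachX H26.F24.T (Nat.div (Nat.shiftLeft 1 306936) 1000003) (Wkw1.map (flat Ws)) [nat_lit 0] mkw1_6 = mkw1_7 := by decide +kernel
theorem rkw1_8 : reachX H26.F24.T (Nat.div (Nat.shiftLeft 1 306936) 1000003) (Wkw1.map (flat Ws)) [nat_lit 1] mkw1_7 = mkw1_8 := by decide +kernel
theorem rkw1_9 : reachX H26.F24.T (Nat.div (Nat.shiftLeft 1 306936) 1000003) (Wkw1.map (flat Ws)) [nat_lit 2] mkw1_8 = mkw1_9 := by decide +kernel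
theorem rkw1_10 : reachX H26.F24.T (Nat.div (Nat.shiftLeft 1 306936) 1000003) (Wkw1.map (flat Ws)) [nat_lit 0] mkw1_9 = mkw1_10 := by decide +kernel
theorem rkw1_11 : reachX H26.F24.T (Nat.div (Nat.shiftLeft 1 306936) 1000003) (Wkw1.map (flat Ws)) [nat_lit 1] mkw1_10 = mkw1_11 := by decide +kernel
theorem rkw1_12 : reachX H26.F24.T (Nat.div (Nat.shiftLeft 1 306936) 1000003) (Wkw1.map (flat Ws)) [nat_lit 2] mkw1_11 = mkw1_12 := by decide +kernel
theorem rkw1_13 : reachX H26.F24.T (Nat.div (Nat.shiftLeft 1 306936) 1000003) (Wkw1.map (flat Ws)) [nat_lit 0] mkw1_12 = mkw1_13 := by decide +kernel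
theorem rkw1_14 : reachX H26.F24.T (Nat.div (Nat.shiftLeft 1 306936) 1000003) (Wkw1.map (flat Ws)) [nat_lit 1] mkw1_13 = mkw1_14 := by decide +kernel
theorem rkw1_15 : reachX H26.F24.T (Nat.div (Nat.shiftLeft 1 306936) 1000003) (Wkw1.map (flat Ws)) [nat_lit 2] mkw1_14 = mkw1_15 := by decide +kernel
theorem rkw1_16 : reachX H26.F24.T (Nat.div (Nat.shiftLeft 1 306936) 1000003) (Wkw1.map (flat Ws)) [nat_lit 0] mkw1_15 = mkw1_16 := by decide +kernel
theorem rkw1_17 : reachX H26.F24.T (Nat.div (Nat.shiftLeft 1 306936) 1000003) (Wkw1.map (flat Ws)) [nat_lit 1] mkw1_16 = mkw1_17 := by decide +kernel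
theorem rkw1_18 : reachX H26.F24.T (Nat.div (Nat.shiftLeft 1 306936) 1000003) (Wkw1.map (flat Ws)) [nat_lit 2] mkw1_17 = mkw1_18 := by decide +kernel
theorem rkw1_19 : reachX H26.F24.T (Nat.div (Nat.shiftLeft 1 306936) 1000003) (Wkw1.map (flat Ws)) [nat_lit 2] mkw1_18 = mkw1 := by decide +kernel
theorem ckw1 : popM 15347 mkw1 = (nat_lit 19440) ∧ 15347 < 1048575 ∧ (nat_lit 11172) < H26.F24.T.n ∧ Wkw1.length = (nat_lit 3) ∧ 0 < (nat_lit 3) := by decide +kernel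
theorem rkw2_0 : reachX H26.F24.T (Nat.div (Nat.shiftLeft 1 306936) 1000003) (Wkw2.map (flat Ws)) [nat_lit 0, nat_lit 1] (maskL [(nat_lit 286596)]) = mkw2_0 := by decide +kernel
theorem rkw2_1 : reachX H26.F24.T (Nat.div (Nat.shiftLeft 1 306936) 1000003) (Wkw2.map (flat Ws)) [nat_lit 0, nat_lit 1] mkw2_0 = mkw2_1 := by decide +kernel
theorem rkw2_2 : reachX H26.F24.T (Nat.div (Nat.shiftLeft 1 306936) 1000003) (Wkw2.map (flat Ws)) [nat_lit 2, nat_lit 0] mkw2_1 = mkw2_2 := by decide +kernel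
theorem rkw2_3 : reachX H26.F24.T (Nat.div (Nat.shiftLeft 1 306936) 1000003) (Wkw2.map (flat Ws)) [nat_lit 1, nat_lit 2] mkw2_2 = mkw2_3 := by decide +kernel
theorem rkw2_4 : reachX H26.F24.T (Nat.div (Nat.shiftLeft 1 306936) 1000003) (Wkw2.map (flat Ws)) [nat_lit 0, nat_lit 1] mkw2_3 = mkw2_4 := by decide +kernel
theorem rkw2_5 : reachX H26.F24.T (Nat.div (Nat.shiftLeft 1 306936) 1000003) (Wkw2.map (flat Ws)) [nat_lit 2] mkw2_4 = mkw2_5 := by decide +kernel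
theorem rkw2_6 : reachX H26.F24.T (Nat.div (Nat.shiftLeft 1 306936) 1000003) (Wkw2.map (flat Ws)) [nat_lit 2] mkw2_5 = mkw2 := by decide +kernel
theorem ckw2 : popM 15347 mkw2 = (nat_lit 324) ∧ 15347 < 1048575 ∧ (nat_lit 286596) < H26.F24.T.n ∧ Wkw2.length = (nat_lit 3) ∧ 0 < (nat_lit 3) := by decide +kernel

end H16.TFi24
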